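import Cfsg.Agent.Lib.BPStar.Action
import Cfsg.Agent.Lib.Blocks12.Bounds
import Cfsg.Agent.Lib.BlockCover.DefectGroup
import Cfsg.Agent.Lib.NilBlk.Main
import Cfsg.Agent.Lib.BrauerPairs.SystemBridge
import Cfsg.Agent.Lib.Fusion.FocalProperKInf
import Mathlib.NumberTheory.LegendreSymbol.Basic

/-!
# The number of height zero characters when the defect group has only `p`-automorphisms
-/

set_option autoImplicit false
set_option linter.unusedSectionVars false
set_option linter.style.haveILetI false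

namespace CfsgLib.HeightDivP

open Cfsg CfsgLib.Characters CfsgLib.Contribution CfsgLib.BrauerPairs
open scoped Classical

universe u

/-- Orbits of length `p` on which a weight prime to `p` is constant, the squares summing to a
multiple of `p ^ 2`. -/
theorem orbit_count {p : ℕ} [hp : Fact p.Prime] {L X : Type*} [Group L] [Finite L] [MulAction L X]
    [Fintype X] [Nonempty X] (hfree : ∀ x : X, MulAction.stabilizer L x = ⊥) (hL : Nat.card L = p)
    (f : X → ℕ) (hf : ∀ (l : L) (x : X), f (l • x) = f x) (hu : ∀ x, ¬ p ∣ f x)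
    (hsum : p ^ 2 ∣ ∑ x, f x ^ 2) :
    2 * p ≤ Nat.card X ∧ (p % 4 = 3 → 3 * p ≤ Nat.card X) := by
  set Q := MulAction.orbitRel.Quotient L X
  haveI : Fintype Q := Fintype.ofFinite Q
  have horb : ∀ ω : Q, Nat.card (MulAction.orbit L ω.out) = p := fun ω => by
    rw [Nat.card_coe_set_eq, ← MulAction.index_stabilizer L ω.out, hfree, Subgroup.index_bot, hL]
  have hcard : Nat.card X = p * Nat.card Q := by
    rw [Nat.card_congr (MulAction.selfEquivSigmaOrbits L X), Nat.card_sigma,
      Finset.sum_congr rfl fun ω _ => horb ω, Finset.sum_const, Finset.card_univ, smul_eq_mul,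
      Nat.card_eq_fintype_card, mul_comm]
  have hsum' : ∑ x, f x ^ 2 = p * ∑ ω : Q, f ω.out ^ 2 := by
    rw [← Equiv.sum_comp (MulAction.selfEquivSigmaOrbits L X).symm (fun x => f x ^ 2),
      Fintype.sum_sigma, Finset.mul_sum]
    refine Finset.sum_congr rfl fun ω _ => ?_
    rw [Finset.sum_congr rfl (g := fun _ => f ω.out ^ 2) ?_, Finset.sum_const, Finset.card_univ,
      smul_eq_mul, ← Nat.card_eq_fintype_card, horb]
    rintro ⟨y, hy⟩ -
    obtain ⟨l, rfl⟩ := MulAction.mem_orbit_iff.1 hy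
    show f ((MulAction.selfEquivSigmaOrbits L X).symm ⟨ω, ⟨l • ω.out, hy⟩⟩) ^ 2 = _
    rw [show (MulAction.selfEquivSigmaOrbits L X).symm ⟨ω, ⟨l • ω.out, hy⟩⟩ = l • ω.out from rfl, hf]
  rw [hsum', pow_two, Nat.mul_dvd_mul_iff_left hp.out.pos] at hsum
  have h1 : 2 ≤ Nat.card Q := by
    by_contra hlt
    obtain ⟨hss, ⟨ω⟩⟩ : Subsingleton Q ∧ Nonempty Q :=
      ⟨Finite.card_le_one_iff_subsingleton.1 (by omega), ⟨Quotient.mk'' (Classical.arbitrary X)⟩⟩
    rw [Fintype.sum_eq_single ω fun x hx => absurd (Subsingleton.elim x ω) hx] at hsum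
    exact hu _ (hp.out.dvd_of_dvd_pow hsum)
  refine ⟨by rw [hcard, mul_comm]; exact Nat.mul_le_mul_left p h1, fun h4 => ?_⟩
  rw [hcard, mul_comm]
  refine Nat.mul_le_mul_left p ?_
  by_contra hlt
  obtain ⟨a, b, hab, huniv⟩ := Finset.card_eq_two.1 (show (Finset.univ : Finset Q).card = 2 by
    rw [Finset.card_univ, ← Nat.card_eq_fintype_card]; omega)
  rw [huniv, Finset.sum_pair hab, ← ZMod.natCast_eq_zero_iff] at hsum
  set x : ZMod p := ((f a.out : ℕ) : ZMod p)
  set y : ZMod p := ((f b.out : ℕ) : ZMod p)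
  have hy : y ≠ 0 := fun h => hu b.out ((ZMod.natCast_eq_zero_iff _ _).1 h)
  have hxy : x ^ 2 + y ^ 2 = 0 := by rw [← hsum]; push_cast; rfl
  refine ZMod.mod_four_ne_three_of_sq_eq_neg_one (y := x / y) ?_ h4
  rw [div_pow, div_eq_iff (pow_ne_zero 2 hy)]
  linear_combination hxy

theorem sq_two : ∀ z : ZMod 2, z ≠ 0 → 1 = z ^ 2 := by decide

theorem sq_three : ∀ z : ZMod 3, z ≠ 0 → 1 = z ^ 2 := by decide

variable {G : Type u} [Group G] [Fintype G] {p : ℕ} [Fact p.Prime] {M : Ideal AlgInt}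
  {B : Set (IrrCharacter G)}

/-- The height zero characters of a block. -/
abbrev HZ (p : ℕ) (B : Set (IrrCharacter G)) : Type u :=
  {χ : IrrCharacter G // χ ∈ B ∧ blockHeight p B (χ : G → ℂ) = 0}

theorem height_zero_iff {χ : IrrCharacter G} (hχ : χ ∈ B) :
    blockHeight p B (χ : G → ℂ) = 0 ↔ ¬ p ∣ red p B χ := by
  have h := pow_dvd_red (Fact.out : p.Prime) (k := 1) hχ
  rw [pow_one] at h
  have hle := minExp_le (p := p) hχ
  rw [h, blockHeight]
  show (charDegree (χ : G → ℂ)).factorization p - minExp p B = 0 ↔ _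
  omega

theorem nonempty_HZ (hM : IsPModular p M) (hB : IsPBlock M B) : Nonempty (HZ p B) := by
  obtain ⟨χ, hχ, h0, -⟩ := exists_height_zero hM hB
  exact ⟨⟨χ, hχ, (height_zero_iff hχ).2 h0⟩⟩

/-- The squares of the reduced degrees of height zero are a multiple of `p ^ min(d,2)`. -/
theorem pow_dvd_sum (hM : IsPModular p M) (hB : IsPBlock M B) {k : ℕ}
    (hk : k ≤ blockDefect p B) (hk2 : k ≤ 2) : p ^ k ∣ ∑ χ : HZ p B, red p B χ.1 ^ 2 := by
  haveI : Fintype (ConjClasses G) := Fintype.ofFinite _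
  have hp : p.Prime := Fact.out
  have hval := sum_sq_valuation hM hB
  have hm := minExp_add_defect hM hB
  set U : ℕ := ∑ φ ∈ members B, red p B φ ^ 2 with hU
  have hsum : ∑ᶠ χ ∈ B, charDegree (χ : G → ℂ) ^ 2 = p ^ (2 * minExp p B) * U := by
    rw [finsum_mem_eq_sum_of_inter_support_eq (t := members B), hU, Finset.mul_sum]
    · refine Finset.sum_congr rfl fun φ hφ => ?_
      rw [degree_red (p := p) (mem_members.mp hφ)]; ring
    · ext φ; simp [mem_members]
  obtain ⟨χ₀, hχ₀, -⟩ := exists_height_zero hM hB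
  have hU0 : U ≠ 0 := fun h0 => by
    have := (Finset.sum_eq_zero_iff.1 h0) χ₀ (mem_members.2 hχ₀)
    exact (red_pos (p := p) hχ₀).ne' (pow_eq_zero_iff two_ne_zero |>.1 this)
  rw [hsum, Nat.factorization_mul (pow_ne_zero _ hp.ne_zero) hU0, Finsupp.add_apply,
    hp.factorization_pow, Finsupp.single_eq_same] at hval
  have hdU : p ^ k ∣ U := (hp.pow_dvd_iff_le_factorization hU0).2 (by omega)
  rw [hU, ← Finset.sum_filter_add_sum_filter_not _ (fun φ : IrrCharacter G => blockHeight p B (φ : G → ℂ) = 0)] at hdU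
  have hrest : p ^ k ∣ ∑ φ ∈ (members B).filter (fun φ : IrrCharacter G => ¬ blockHeight p B (φ : G → ℂ) = 0),
      red p B φ ^ 2 := Finset.dvd_sum fun φ hφ => by
    obtain ⟨h1, h2⟩ := Finset.mem_filter.1 hφ
    rw [height_zero_iff (mem_members.1 h1), not_not] at h2
    exact (pow_dvd_pow p hk2).trans (pow_dvd_pow_of_dvd h2 2)
  rw [Nat.dvd_add_iff_left hrest]
  convert hdU using 2
  refine (Finset.sum_subtype _ (fun φ => ?_) fun φ => red p B φ ^ 2).symm
  rw [Finset.mem_filter, mem_members]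

/-- For `p ≤ 3` the height zero characters of a block of positive defect number a multiple of `p`. -/
theorem dvd_card_of_le_three (hM : IsPModular p M) (hB : IsPBlock M B)
    (hd : 1 ≤ blockDefect p B) (hp3 : p ≤ 3) : p ∣ Nat.card (HZ p B) := by
  have hp : p.Prime := Fact.out
  have h := pow_dvd_sum hM hB hd (by norm_num)
  rw [pow_one, ← ZMod.natCast_eq_zero_iff] at h
  rw [← ZMod.natCast_eq_zero_iff, ← h, Nat.card_eq_fintype_card,
    ← Finset.card_univ, Finset.card_eq_sum_ones]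
  push_cast
  refine Finset.sum_congr rfl fun χ _ => ?_
  have hne : ((red p B χ.1 : ℕ) : ZMod p) ≠ 0 := fun h0 =>
    (height_zero_iff χ.2.1).1 χ.2.2 ((ZMod.natCast_eq_zero_iff _ _).1 h0)
  have h2 := hp.two_le
  interval_cases p
  · exact sq_two _ hne
  · exact sq_three _ hne

/-- The case `p ≥ 5`. -/
theorem of_five_le (hM : IsPModular p M) (hB : IsPBlock M B) {D : Subgroup G}
    (hD : IsDefectGroup p M B D) (hD1 : D ≠ ⊥) (hAut : IsPGroup p (MulAut D)) (hp5 : 5 ≤ p) :
    p ∣ Nat.card (HZ p B) ∧ 2 * p ≤ Nat.card (HZ p B) ∧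
      (p % 4 = 3 → 3 * p ≤ Nat.card (HZ p B)) := by
  haveI := hM.2.1
  have hp : p.Prime := Fact.out
  obtain ⟨e, he⟩ := CfsgLib.NilBlk.exists_maximalPair hM hB hD
  obtain ⟨F, hF⟩ := exists_blockFusion hM he
  have hsat := isSaturated_blockFusion hM hF
  have hDp : IsPGroup p D := ((isMaximalBrauerPair_iff hM B D e).1 he).2.pgroup
  have hlt := CfsgLib.Fusion.FocalProper.focal_lt hp5 hDp F hsat hD1 (hAut.to_subgroup _)
  set N := F.focalSubgroup.subgroupOf D with hN
  haveI : N.Normal := Subgroup.Normal.of_commutator_le D (CfsgLib.BPStar.commutator_le_focal hM hF)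
  haveI := nonempty_HZ hM hB
  obtain ⟨j, hj⟩ := hDp.index N
  have hj0 : j ≠ 0 := by
    rintro rfl
    rw [pow_zero, Subgroup.index_eq_one, hN, Subgroup.subgroupOf_eq_top] at hj
    exact absurd hj hlt.not_ge
  have hdvd : p ^ j ∣ Nat.card (HZ p B) := hj ▸ CfsgLib.BPStar.index_focal_dvd hM hF
  refine ⟨(dvd_pow_self p hj0).trans hdvd, ?_⟩
  rcases Nat.lt_or_ge j 2 with hj2 | hj2
  · obtain rfl : j = 1 := by omega
    rw [pow_one] at hj
    have hd2 : 2 ≤ blockDefect p B := by
      have hc := CfsgLib.BlockCover.natCard_defect hM hB hD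
      by_contra hlt2
      rcases Nat.lt_or_ge (blockDefect p B) 1 with h0 | h1
      · rw [show blockDefect p B = 0 by omega, pow_zero] at hc
        exact hD1 (Subgroup.card_eq_one.1 hc)
      · rw [show blockDefect p B = 1 by omega, pow_one] at hc
        haveI : IsCyclic D := isCyclic_of_prime_card hc
        obtain ⟨n, hn⟩ := IsPGroup.iff_card.1 hAut
        have hcard : Nat.card (MulAut D) = p - 1 := by
          rw [Nat.card_congr (IsCyclic.mulAutMulEquiv D).toEquiv, Nat.card_eq_fintype_card,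
            ZMod.card_units_eq_totient, hc, Nat.totient_prime hp]
        rw [hcard] at hn
        rcases Nat.eq_zero_or_pos n with rfl | hn0
        · rw [pow_zero] at hn; omega
        · have := Nat.le_of_dvd (by omega) (hn ▸ dvd_pow_self p hn0.ne' : p ∣ p - 1)
          omega
    letI := CfsgLib.BPStar.starAction hM hF 0
    haveI : Finite (D ⧸ N →* ℂˣ) :=
      Nat.finite_of_card_ne_zero (by
        rw [CfsgLib.BPStar.card_linChar hM hF]; exact Subgroup.index_ne_zero_of_finite)
    refine orbit_count (L := D ⧸ N →* ℂˣ) (fun χ => ?_)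
      (by rw [CfsgLib.BPStar.card_linChar hM hF]; exact hj) (fun χ => red p B χ.1) (fun l χ => ?_)
      (fun χ => (height_zero_iff χ.2.1).1 χ.2.2) (pow_dvd_sum hM hB hd2 le_rfl)
    · exact (Subgroup.eq_bot_iff_forall _).2 fun l hl =>
        CfsgLib.BPStar.eq_one_of_fixed hM hF l χ.2.1 χ.2.2
          (congrArg Subtype.val (MulAction.mem_stabilizer_iff.1 hl))
    · show red p B (CfsgLib.BPStar.starChar (CfsgLib.BPStar.starCtx_quot hM hF l) χ.2.1) = red p B χ.1
      have h1 : ((CfsgLib.BPStar.starChar (CfsgLib.BPStar.starCtx_quot hM hF l) χ.2.1 :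
          IrrCharacter G) : G → ℂ) 1 = (χ.1 : G → ℂ) 1 := by
        rw [CfsgLib.BPStar.starChar_coe, CfsgLib.BPStar.starFun_one (CfsgLib.BPStar.starCtx_quot hM hF l) χ.2.1]
      rw [CharCorr.irr_one_eq_charDegree, CharCorr.irr_one_eq_charDegree, Nat.cast_inj] at h1
      rw [red, red, h1]
  · have hpos : 0 < Nat.card (HZ p B) := Nat.card_pos
    have hle : p * p ≤ Nat.card (HZ p B) :=
      Nat.le_of_dvd hpos (((pow_two p).symm ▸ pow_dvd_pow p hj2 : p * p ∣ p ^ j).trans hdvd)
    exact ⟨le_trans (Nat.mul_le_mul_right p (by omega)) hle,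
      fun _ => le_trans (Nat.mul_le_mul_right p (by omega)) hle⟩

end CfsgLib.HeightDivP
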